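import Groth.Agent.TwoFactLib.Double
import Groth.Agent.S9711
import Groth.Agent.S9371
import Groth.Agent.OmegaExistsLib.Main
import Groth.Agent.OmegaAffLib.Apps
import Groth.Agent.CohCmpLib.UnitFibre
import Groth.Agent.CohCmpLib.PullOnComp

/-!
# The cotangent complex of a factorisation and of a finer one
-/

set_option autoImplicit false
set_option linter.style.haveILetI false
set_option maxHeartbeats 1600000
set_option backward.isDefEq.respectTransparency.types false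

universe u

open CategoryTheory CategoryTheory.Limits AlgebraicGeometry TopologicalSpace Opposite

noncomputable section

attribute [local instance] HasDerivedCategory.standard

namespace TwoFactLib

theorem map_pullSect {X Y : Scheme.{u}} (k : X ⟶ Y) {M N : Y.Modules} (m : M ⟶ N) (U : Y.Opens) (x : Γ(M, U)) :
    ((Scheme.Modules.pullback k).map m).app (k ⁻¹ᵁ U) (OmegaSh.pullSect k M U x) =
      OmegaSh.pullSect k N U (m.app U x) :=
  congr(Scheme.Modules.Hom.app $((Scheme.Modules.pullbackPushforwardAdjunction k).unit.naturality m) U x).symm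

theorem diffCompat_comp {X Y S T T' : Scheme.{u}} {f : X ⟶ Y} {q₀ : Y ⟶ S} {q : X ⟶ T} {q' : X ⟶ T'}
    {A : Y.Modules} {dA : OmegaSh.Der q₀ A} {B : X.Modules} {dB : OmegaSh.Der q B} {C : X.Modules}
    {dC : OmegaSh.Der q' C} {c : (Scheme.Modules.pullback f).obj A ⟶ B}
    {c' : (Scheme.Modules.pullback (𝟙 X)).obj B ⟶ C} (hc : OmegaSh.IsDiffCompat f dA dB c)
    (hc' : OmegaSh.IsDiffCompat (𝟙 X) dB dC c') :
    OmegaSh.IsDiffCompat f dA dC (c ≫ (Scheme.Modules.pullbackId X).inv.app B ≫ c') := fun U s => by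
  show c'.app _ (((Scheme.Modules.pullbackId X).inv.app B).app _ (c.app _ (OmegaSh.pullSect f A U (dA.app U s)))) = _
  rw [hc U s, OmegaAffLib.pullbackId_inv_app]
  exact hc' (f ⁻¹ᵁ U) (f.app U s)

/-- The map of differentials of an open piece of a base change is invertible. -/
theorem isIso_openPiece {Y V V' P : Scheme.{u}} (g : V ⟶ Y) (g' : V' ⟶ Y) {p₁ : P ⟶ V} {p₂ : P ⟶ V'}
    (H : IsPullback p₁ p₂ g g') (W : P.Opens) {Ω : V.Modules} {d : OmegaSh.Der g Ω} (hd : OmegaSh.IsUniversal d)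
    {ΩW : (W : Scheme.{u}).Modules} {dW : OmegaSh.Der (W.ι ≫ p₂) ΩW} (hdW : OmegaSh.IsUniversal dW)
    (e : (Scheme.Modules.pullback (W.ι ≫ p₁)).obj Ω ⟶ ΩW) (he : OmegaSh.IsDiffCompat (W.ι ≫ p₁) d dW e) :
    IsIso e := by
  obtain ⟨ΩP, dP, hdP⟩ := OmegaExistsLib.exists_isUniversal p₂
  obtain ⟨c₁, hc₁, -⟩ := OmegaAffLib.existsUnique_diffCompat H.w.symm d hd dP
  haveI := OmegaAffLib.isIso_of_isPullback H hd hdP hc₁
  obtain ⟨c₂, hc₂, -⟩ := OmegaAffLib.existsUnique_diffCompat (b := 𝟙 V') (h := W.ι) (f' := W.ι ≫ p₂)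
    (Category.comp_id _) dP hdP dW
  haveI := OmegaAffLib.isIso_of_etale (h := W.ι) (b := 𝟙 V') (by rw [Category.comp_id]) hdP hdW hc₂
  suffices e = (Scheme.Modules.pullbackComp W.ι p₁).inv.app Ω ≫ (Scheme.Modules.pullback W.ι).map c₁ ≫ c₂ by
    rw [this]; infer_instance
  refine OmegaAffLib.hom_ext_pullback hd fun U s => (he U s).trans ?_
  symm
  show c₂.app _ (((Scheme.Modules.pullback W.ι).map c₁).app _
    (((Scheme.Modules.pullbackComp W.ι p₁).inv.app Ω).app _ (KFlatLib.puSec (W.ι ≫ p₁) (d.app U s)))) = _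
  refine (congrArg (fun t => c₂.app (W.ι ⁻¹ᵁ (p₁ ⁻¹ᵁ U)) (((Scheme.Modules.pullback W.ι).map c₁).app _ t))
    (CohCmpLib.pullbackComp_inv_puSec W.ι p₁ Ω (d.app U s))).trans ?_
  refine (congrArg (fun t => c₂.app (W.ι ⁻¹ᵁ (p₁ ⁻¹ᵁ U)) t)
    ((map_pullSect W.ι c₁ (p₁ ⁻¹ᵁ U) (OmegaSh.pullSect p₁ Ω U (d.app U s))).trans
      (congrArg _ (hc₁ U s)))).trans ?_
  exact hc₂ (p₁ ⁻¹ᵁ U) (p₁.app U s)

/-- The two term complex of a factorisation agrees with that of a finer one. -/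
theorem nonempty_iso_refine {X Y V V' P : Scheme.{u}} (g : V ⟶ Y) (g' : V' ⟶ Y) [Smooth g'] {p₁ : P ⟶ V}
    {p₂ : P ⟶ V'} (H : IsPullback p₁ p₂ g g') (W : P.Opens) (k : X ⟶ (W : Scheme.{u})) [IsImmersion k]
    [QuasiCompact k] [IsImmersion (k ≫ W.ι ≫ p₁)] [QuasiCompact (k ≫ W.ι ≫ p₁)]
    (Ω : V.Modules) (d : OmegaSh.Der g Ω) (hd : OmegaSh.IsUniversal d)
    (φ : Omega.conormal (k ≫ W.ι ≫ p₁) ⟶ (Scheme.Modules.pullback (k ≫ W.ι ≫ p₁)).obj Ω)
    (hφ : OmegaSh.IsConormalDiff (k ≫ W.ι ≫ p₁) d φ)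
    (ΩW : (W : Scheme.{u}).Modules) (dW : OmegaSh.Der ((W.ι ≫ p₁) ≫ g) ΩW) (hdW : OmegaSh.IsUniversal dW)
    (φW : Omega.conormal k ⟶ (Scheme.Modules.pullback k).obj ΩW) (hφW : OmegaSh.IsConormalDiff k dW φW) :
    Nonempty (DCoh.toD X (HomologicalComplex.double φ (show (ComplexShape.up ℤ).Rel (-1 : ℤ) 0 from neg_add_cancel (1 : ℤ))) ≅
      DCoh.toD X (HomologicalComplex.double φW (show (ComplexShape.up ℤ).Rel (-1 : ℤ) 0 from neg_add_cancel (1 : ℤ)))) := by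
  haveI : Smooth p₁ := MorphismProperty.of_isPullback H.flip ‹Smooth g'›
  let p : (W : Scheme.{u}) ⟶ V := W.ι ≫ p₁
  haveI : Smooth p := inferInstanceAs (Smooth (W.ι ≫ p₁))
  -- differentials over `V` and over `V'`
  obtain ⟨ΩV, dV, hdV⟩ := OmegaExistsLib.exists_isUniversal p
  obtain ⟨Ω', dW', hdW'⟩ := OmegaExistsLib.exists_isUniversal (W.ι ≫ p₂)
  obtain ⟨c₁, hc₁, -⟩ := OmegaAffLib.existsUnique_diffCompat (h := p) (b := 𝟙 Y) (f' := p ≫ g)
    (Category.comp_id _) d hd dW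
  obtain ⟨c₂, hc₂, -⟩ := OmegaAffLib.existsUnique_diffCompat (h := 𝟙 (W : Scheme.{u})) (f' := p) (b := g)
    (Category.id_comp _).symm dW hdW dV
  obtain ⟨c₃, hc₃, -⟩ := OmegaAffLib.existsUnique_diffCompat (h := 𝟙 (W : Scheme.{u})) (f' := W.ι ≫ p₂) (b := g')
    (show (W.ι ≫ p₂) ≫ g' = 𝟙 _ ≫ (W.ι ≫ p₁) ≫ g by rw [Category.id_comp, Category.assoc, Category.assoc, H.w]) dW hdW dW'
  let π := (Scheme.Modules.pullbackId (W : Scheme.{u})).inv.app ΩW ≫ c₂
  haveI hπ : Epi π := OmegaAffLib.epi_proj hdV hc₂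
  have w := OmegaAffLib.comp_proj_eq_zero hd hc₁ hc₂
  have hex : (ShortComplex.mk c₁ π w).Exact := by
    refine ShortComplex.exact_of_g_is_cokernel _ ?_
    refine CokernelCofork.IsColimit.ofπ' _ _ fun {M} ψ hψ => ⟨(hdV M (OmegaAffLib.descDer hc₁ ψ hψ)).choose, ?_⟩
    refine OmegaAffLib.der_hom_ext hdW fun U s => ?_
    rw [Scheme.Modules.Hom.comp_app, ConcreteCategory.comp_apply, OmegaAffLib.proj_d hc₂]
    exact congrArg (fun D : OmegaSh.Der p M => D.app U s) (hdV M (OmegaAffLib.descDer hc₁ ψ hψ)).choose_spec.1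
  haveI : PreservesColimitsOfSize.{0, 0} (Scheme.Modules.pullback k) :=
    (Scheme.Modules.pullbackPushforwardAdjunction k).leftAdjoint_preservesColimits
  let e := (Scheme.Modules.pullbackComp k p).inv.app Ω
  let α := e ≫ (Scheme.Modules.pullback k).map c₁
  let β := (Scheme.Modules.pullback k).map π
  have wb : α ≫ β = 0 := by
    simp only [α, β, Category.assoc, ← Functor.map_comp]
    rw [show c₁ ≫ π = 0 from w, Functor.map_zero, comp_zero]
  have h₁ : (ShortComplex.mk α β wb).ShortExact := by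
    have hc := CokernelCofork.mapIsColimit _ (hex.gIsCokernel) (Scheme.Modules.pullback k)
    have w' : (Scheme.Modules.pullback k).map c₁ ≫ β = 0 := by
      rw [← Functor.map_comp, show c₁ ≫ π = 0 from w, Functor.map_zero]
    have hex' : (ShortComplex.mk _ β w').Exact :=
      ShortComplex.exact_of_g_is_cokernel _ hc
    haveI : IsIso (c₁ ≫ (Scheme.Modules.pullbackId (W : Scheme.{u})).inv.app ΩW ≫ c₃) :=
      isIso_openPiece g g' H W hd hdW' _ (diffCompat_comp hc₁ hc₃)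
    haveI : Mono ((Scheme.Modules.pullback k).map c₁) := by
      haveI : Mono ((Scheme.Modules.pullback k).map c₁ ≫ (Scheme.Modules.pullback k).map
          ((Scheme.Modules.pullbackId (W : Scheme.{u})).inv.app ΩW ≫ c₃)) := by
        rw [← Functor.map_comp]; infer_instance
      exact mono_of_mono _ ((Scheme.Modules.pullback k).map ((Scheme.Modules.pullbackId (W : Scheme.{u})).inv.app ΩW ≫ c₃))
    exact
      { exact := (ShortComplex.exact_iff_of_iso (ShortComplex.isoMk (S₁ := ShortComplex.mk α β wb) (S₂ := ShortComplex.mk _ β w') (asIso e) (Iso.refl _) (Iso.refl _)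
          (by simp [α]) (by simp))).2 hex'
        mono_f := inferInstanceAs (Mono (e ≫ _))
        epi_g := inferInstanceAs (Epi ((Scheme.Modules.pullback k).map π)) }
  -- the conormal sheaves
  obtain ⟨ψ, hψ, -⟩ := Groth.Agent.S9371.result k (k ≫ p) p (𝟙 X) (by rw [Category.id_comp])
  let φV := φW ≫ β
  have hφV : OmegaSh.IsConormalDiff k dV φV := fun U s => by
    show β.app _ (φW.app _ (OmegaSh.conormalSect k U s)) = _
    rw [hφW U s]
    exact (map_pullSect k π U _).trans (congrArg _ (OmegaAffLib.proj_d hc₂ U _))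
  obtain ⟨wV, hV⟩ := Groth.Agent.S9711.result p k (k ≫ p) rfl ΩV dV hdV ψ hψ φV hφV
  let a := (Scheme.Modules.pullbackId X).inv.app (Omega.conormal (k ≫ p)) ≫ ψ
  have wa : a ≫ φW ≫ β = 0 := by simp only [a, Category.assoc]; rw [show ψ ≫ φW ≫ β = 0 from wV, comp_zero]
  have h₀ : (ShortComplex.mk a (φW ≫ β) wa).ShortExact :=
    ShortComplex.shortExact_of_iso (ShortComplex.isoMk (S₁ := ShortComplex.mk ψ φV wV) (S₂ := ShortComplex.mk a (φW ≫ β) wa)
      ((Scheme.Modules.pullbackId X).app _) (Iso.refl _) (Iso.refl _)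
      (by simp [a]) (by simp [φV])) hV
  refine nonempty_iso _ a α ?_ β wb h₁ wa h₀
  refine ConormalSecLib.conormal_hom_ext (k ≫ p) fun U t => ?_
  have hs : k.app (p ⁻¹ᵁ U) (p.app U (OmegaSh.idealSect (k ≫ p).ker U t)) = 0 :=
    ConormalSecLib.app_idealSect (k ≫ p) U t
  let s := ConormalSecLib.lift k (p ⁻¹ᵁ U) _ hs
  have h1 := hψ.2 U t s (ConormalSecLib.idealSect_lift k _ _ hs) ((k ≫ p) ⁻¹ᵁ U) le_rfl le_rfl
  erw [ConormalSeqLib.hidM, ConormalSeqLib.hidM] at h1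
  have ha : a.app ((k ≫ p) ⁻¹ᵁ U) (OmegaSh.conormalSect (k ≫ p) U t) = OmegaSh.conormalSect k (p ⁻¹ᵁ U) s := by
    refine (congrArg (ψ.app _) (OmegaAffLib.pullbackId_inv_app _ _ _)).trans ?_
    exact h1
  show φW.app _ (a.app _ _) = ((Scheme.Modules.pullback k).map c₁).app _ (e.app _ (φ.app ((k ≫ p) ⁻¹ᵁ U) _))
  refine ((congrArg (φW.app _) ha).trans ((hφW (p ⁻¹ᵁ U) s).trans ?_)).trans
    (congrArg (fun z => ((Scheme.Modules.pullback k).map c₁).app _ (e.app _ z)) (hφ U t).symm)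
  refine Eq.trans ?_ (congrArg (fun z => ((Scheme.Modules.pullback k).map c₁).app _ z)
    (CohCmpLib.pullbackComp_inv_puSec k p Ω (d.app U (OmegaSh.idealSect (k ≫ p).ker U t)))).symm
  refine Eq.trans ?_ ((map_pullSect k c₁ (p ⁻¹ᵁ U)
    (OmegaSh.pullSect p Ω U (d.app U (OmegaSh.idealSect (k ≫ p).ker U t)))).trans (congrArg _ (hc₁ U _))).symm
  rw [ConormalSecLib.idealSect_lift]

theorem exists_der_congr {X W Y : Scheme.{u}} {q q' : W ⟶ Y} (e : q = q') {Ω : W.Modules} (d : OmegaSh.Der q Ω)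
    (hd : OmegaSh.IsUniversal d) (k : X ⟶ W) (φ : Omega.conormal k ⟶ (Scheme.Modules.pullback k).obj Ω)
    (hφ : OmegaSh.IsConormalDiff k d φ) :
    ∃ d' : OmegaSh.Der q' Ω, OmegaSh.IsUniversal d' ∧ OmegaSh.IsConormalDiff k d' φ := by
  subst e
  exact ⟨d, hd, hφ⟩

/-- The two term complexes of two factorisations through pieces of a fibre product agree. -/
theorem nonempty_iso_two {X Y V V' P : Scheme.{u}} (g : V ⟶ Y) (g' : V' ⟶ Y) [Smooth g] [Smooth g'] {p₁ : P ⟶ V}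
    {p₂ : P ⟶ V'} (H : IsPullback p₁ p₂ g g') (W : P.Opens) (k : X ⟶ (W : Scheme.{u})) [IsImmersion k]
    [QuasiCompact k] (i : X ⟶ V) [IsImmersion i] [QuasiCompact i] (i' : X ⟶ V') [IsImmersion i'] [QuasiCompact i']
    (hk : k ≫ W.ι ≫ p₁ = i) (hk' : k ≫ W.ι ≫ p₂ = i')
    (Ω : V.Modules) (d : OmegaSh.Der g Ω) (hd : OmegaSh.IsUniversal d)
    (Ω' : V'.Modules) (d' : OmegaSh.Der g' Ω') (hd' : OmegaSh.IsUniversal d')
    (φ : Omega.conormal i ⟶ (Scheme.Modules.pullback i).obj Ω) (hφ : OmegaSh.IsConormalDiff i d φ)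
    (φ' : Omega.conormal i' ⟶ (Scheme.Modules.pullback i').obj Ω') (hφ' : OmegaSh.IsConormalDiff i' d' φ') :
    Nonempty (DCoh.toD X (HomologicalComplex.double φ (show (ComplexShape.up ℤ).Rel (-1 : ℤ) 0 from neg_add_cancel (1 : ℤ))) ≅
      DCoh.toD X (HomologicalComplex.double φ' (show (ComplexShape.up ℤ).Rel (-1 : ℤ) 0 from neg_add_cancel (1 : ℤ)))) := by
  subst hk hk'
  obtain ⟨ΩW, dW, hdW⟩ := OmegaExistsLib.exists_isUniversal ((W.ι ≫ p₁) ≫ g)
  obtain ⟨φW, hφW⟩ := ConormalSecLib.exists_conormalDiff k dW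
  obtain ⟨dW', hdW', hφW'⟩ := exists_der_congr
    (show (W.ι ≫ p₁) ≫ g = (W.ι ≫ p₂) ≫ g' by rw [Category.assoc, Category.assoc, H.w]) dW hdW k φW hφW
  obtain ⟨e⟩ := nonempty_iso_refine g g' H W k Ω d hd φ hφ ΩW dW hdW φW hφW
  obtain ⟨e'⟩ := nonempty_iso_refine g' g H.flip W k Ω' d' hd' φ' hφ' ΩW dW' hdW' φW hφW'
  exact ⟨e ≪≫ e'.symm⟩

end TwoFactLib

end
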