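import Mathlib.Algebra.Homology.Double
import Mathlib.Algebra.Homology.HomologySequence
import Mathlib.Algebra.Homology.HomologicalComplexAbelian
import Mathlib.Algebra.Homology.DerivedCategory.Basic

/-!
# Two term complexes with the same cokernel of a comparison map
-/

set_option autoImplicit false

universe v u w

open CategoryTheory CategoryTheory.Limits HomologicalComplex

namespace TwoFactLib

variable {C : Type u} [Category.{v} C] [Abelian C] [HasDerivedCategory.{w} C]
  {X₀ X₁ Y₀ Y₁ Q : C} {f : X₀ ⟶ X₁} {g : Y₀ ⟶ Y₁}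

theorem acyclic_double_id (hi : (ComplexShape.up ℤ).Rel (-1) 0) : (double (𝟙 Q) hi).Acyclic := by
  intro i
  by_cases h : i = -1
  · subst h
    rw [exactAt_iff' _ (-2) (-1) 0 (by simp) (by simp)]
    refine (ShortComplex.exact_iff_mono _ (double_d_eq_zero₁ (𝟙 Q) hi _ _ (by decide))).2 ?_
    show Mono ((double (𝟙 Q) hi).d (-1) 0)
    rw [double_d _ _ (by decide)]
    infer_instance
  by_cases h' : i = 0
  · subst h'
    rw [exactAt_iff' _ (-1) 0 1 (by simp) (by simp)]
    refine (ShortComplex.exact_iff_epi _ (double_d_eq_zero₀ (𝟙 Q) hi _ _ (by decide))).2 ?_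
    show Epi ((double (𝟙 Q) hi).d (-1) 0)
    rw [double_d _ _ (by decide)]
    infer_instance
  exact ShortComplex.exact_of_isZero_X₂ _ (isZero_double_X (𝟙 Q) hi i h h')

theorem nonempty_iso (hi : (ComplexShape.up ℤ).Rel (-1) 0) (a : X₀ ⟶ Y₀) (b : X₁ ⟶ Y₁) (hsq : a ≫ g = f ≫ b)
    (c : Y₁ ⟶ Q) (w₁ : b ≫ c = 0) (h₁ : (ShortComplex.mk b c w₁).ShortExact)
    (w₀ : a ≫ g ≫ c = 0) (h₀ : (ShortComplex.mk a (g ≫ c) w₀).ShortExact) :
    Nonempty (DerivedCategory.Q.obj (double f hi) ≅ DerivedCategory.Q.obj (double g hi)) := by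
  let Φ : double f hi ⟶ double g hi := mkHomFromDouble hi (by decide)
    (a ≫ (doubleXIso₀ g hi).inv) (b ≫ (doubleXIso₁ g hi (by decide)).inv)
    (by rw [double_d _ _ (by decide)]; simp [reassoc_of% hsq])
    (fun k _ => by rw [double_d_eq_zero₀ _ _ _ _ (by decide), comp_zero])
  let Ψ : double g hi ⟶ double (𝟙 Q) hi := mkHomFromDouble hi (by decide)
    ((g ≫ c) ≫ (doubleXIso₀ (𝟙 Q) hi).inv) (c ≫ (doubleXIso₁ (𝟙 Q) hi (by decide)).inv)
    (by rw [double_d _ _ (by decide)]; simp)
    (fun k _ => by rw [double_d_eq_zero₀ _ _ _ _ (by decide), comp_zero])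
  have w : Φ ≫ Ψ = 0 := by
    apply from_double_hom_ext
    · simp [Φ, Ψ, reassoc_of% w₀]
    · simp [Φ, Ψ, reassoc_of% w₁]
  let S := ShortComplex.mk Φ Ψ w
  have hS : S.ShortExact := by
    refine shortExact_of_degreewise_shortExact S fun i => ?_
    by_cases h : i = -1
    · subst h
      exact ShortComplex.shortExact_of_iso (ShortComplex.isoMk (doubleXIso₀ f hi).symm (doubleXIso₀ g hi).symm
        (doubleXIso₀ (𝟙 Q) hi).symm (by simp [S, Φ]; first | done | exact Iso.inv_hom_id_assoc _ _) (by simp [S, Ψ]; first | done | exact Iso.inv_hom_id_assoc _ _)) h₀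
    by_cases h' : i = 0
    · subst h'
      exact ShortComplex.shortExact_of_iso (ShortComplex.isoMk (doubleXIso₁ f hi (by decide)).symm
        (doubleXIso₁ g hi (by decide)).symm (doubleXIso₁ (𝟙 Q) hi (by decide)).symm (by simp [S, Φ]; first | done | exact Iso.inv_hom_id_assoc _ _)
        (by simp [S, Ψ]; first | done | exact Iso.inv_hom_id_assoc _ _)) h₁
    exact
      { exact := ShortComplex.exact_of_isZero_X₂ _ (isZero_double_X g hi i h h')
        mono_f := ⟨fun u v _ => (isZero_double_X f hi i h h').eq_of_tgt u v⟩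
        epi_g := ⟨fun u v _ => (isZero_double_X (𝟙 Q) hi i h h').eq_of_src u v⟩ }
  haveI : QuasiIso Φ := by
    rw [quasiIso_iff]
    intro i
    rw [quasiIsoAt_iff_isIso_homologyMap]
    have hz : ∀ j, IsZero ((double (𝟙 Q) hi).homology j) := fun j =>
      (exactAt_iff_isZero_homology _ _).1 (acyclic_double_id hi j)
    haveI : Mono (homologyMap S.f i) :=
      (hS.homology_exact₁ (i - 1) i (by simp)).mono_g ((hz (i - 1)).eq_of_src _ _)
    haveI : Epi (homologyMap S.f i) := (hS.homology_exact₂ i).epi_f ((hz i).eq_of_tgt _ _)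
    exact isIso_of_mono_of_epi (homologyMap S.f i)
  exact ⟨asIso (DerivedCategory.Q.map Φ)⟩

end TwoFactLib
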